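import Cfsg.Agent.H4.Count

/-! Simple groups with a subgroup of small index. -/

set_option autoImplicit false

namespace CfsgH4

open Subgroup

variable {G : Type*} [Group G]

theorem toPermHom_injective_of_simple [IsSimpleGroup G] {H : Subgroup G} (hH : H ≠ ⊤) :
    Function.Injective (MulAction.toPermHom G (G ⧸ H)) := by
  rw [← MonoidHom.ker_eq_bot_iff, ← normalCore_eq_ker]
  rcases (normalCore_normal H).eq_bot_or_eq_top with h | h
  · exact h
  · exact absurd (top_le_iff.1 (h ▸ normalCore_le H)) hH

theorem card_dvd_factorial_of_simple [Finite G] [IsSimpleGroup G] {H : Subgroup G} (hH : H ≠ ⊤) :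
    Nat.card G ∣ H.index.factorial := by
  classical
  have := Fintype.ofFinite (G ⧸ H)
  have h := card_dvd_of_injective _ (toPermHom_injective_of_simple hH)
  rwa [Nat.card_perm, ← index_eq_card] at h

theorem simple_no_index_two [Finite G] [IsSimpleGroup G] (hgt : 2 < Nat.card G)
    (H : Subgroup G) : H.index ≠ 2 := by
  intro h
  rcases (normal_of_index_eq_two h).eq_bot_or_eq_top with h1 | h1
  · rw [h1, index_bot] at h; omega
  · rw [h1, index_top] at h; omega

theorem simple_involution_not_central [Finite G] [IsSimpleGroup G] (hgt : 2 < Nat.card G)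
    (t : G) (ht : orderOf t = 2) : t ∉ center G := by
  intro htZ
  have hn : (zpowers t).Normal := by
    constructor
    intro x hx g
    have : x ∈ center G := (zpowers_le.2 htZ) hx
    rw [mem_center_iff.1 this g]
    simpa using hx
  have hc : Nat.card (zpowers t) = 2 := by rw [Nat.card_zpowers, ht]
  rcases hn.eq_bot_or_eq_top with h1 | h1
  · rw [h1, card_bot] at hc; omega
  · rw [h1, card_top] at hc; omega

end CfsgH4
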