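import Cfsg.Agent.H4.SEMax
import Cfsg.Agent.H4.Homo2
import Cfsg.Agent.H1.Burnside
import Cfsg.Agent.H2.Critical
import Cfsg.Agent.L0.PSolv

/-! Groups all of whose `p'`-subgroups are abelian. -/

set_option autoImplicit false

namespace CfsgH4

open Subgroup Cfsg CfsgL0 MulAction
open CfsgH2 (IsHallOf cj)
open scoped commutatorElement

variable {G : Type*} [Group G] [Finite G] {p : ℕ} [hp : Fact p.Prime]

theorem abHall_top (hs : Group.IsSolvable G) {L : Subgroup G} (hL : IsHallOf {p}ᶜ L ⊤)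
    (hc : IsMulCommutative L) : (pCore p G ⊔ L).Normal ∧
      ∀ R : Subgroup G, IsPGroup p R → L ≤ normalizer (R : Set G) → R ≤ pCore p G := by
  set U := pCore p G
  let π := QuotientGroup.mk' U
  have hπ := QuotientGroup.mk'_surjective U
  set F := pPrimeCore p (G ⧸ U)
  have hC : centralizer (F : Set (G ⧸ U)) ≤ F :=
    centralizer_pPrimeCore_le (isPSolvable_of_isSolvable inferInstance) (pCore_quotient G p)
  have hF : IsPi {p}ᶜ (Nat.card F) := (isPi_compl_singleton_iff hp.out).2 (coprime_card_pPrimeCore _ p)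
  have hL' : IsHallOf {p}ᶜ (L.map π) ⊤ := ⟨le_top, hL.2.1.map π, by
    have := hL.2.2
    rw [relIndex_top_right] at this ⊢
    exact this.of_dvd (index_map_dvd L hπ)⟩
  have h1 : F ≤ L.map π := by
    have := hL'.eq_of_le (IsPi.sup (le_normalizer_of_normal) hL'.2.1 hF) le_sup_left le_top
    rw [← this]; exact le_sup_right
  have h2 : L.map π ≤ F := by
    refine le_trans (fun x hx => mem_centralizer_iff.2 fun y hy => ?_) hC
    haveI := hc
    exact setLike_mul_comm (s := L.map π) (h1 hy) hx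
  have h3 : L.map π = F := le_antisymm h2 h1
  refine ⟨?_, fun R hR hn => ?_⟩
  · have : U ⊔ L = F.comap π := by
      rw [← h3, comap_map_eq, QuotientGroup.ker_mk', sup_comm]
    rw [this]; infer_instance
  · have h4 : F ≤ normalizer ((R.map π : Subgroup (G ⧸ U)) : Set (G ⧸ U)) := by
      rw [← h3]; exact (map_mono hn).trans (le_normalizer_map π)
    have h5 : R.map π ⊓ F = ⊥ := pPrime_inf_pGroup_eq_bot (hR.map π) (coprime_card_pPrimeCore _ p)
    have h6 : R.map π ≤ F := by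
      refine le_trans (fun x hx => mem_centralizer_iff.2 fun y hy => ?_) hC
      have : y * x * y⁻¹ * x⁻¹ ∈ R.map π ⊓ F := mem_inf.2 ⟨mul_mem ((mem_normalizer_iff.1 (h4 hy) x).1 hx)
        (inv_mem hx), by
          rw [mul_assoc, mul_assoc, ← mul_assoc x]
          exact mul_mem hy ((inferInstance : F.Normal).conj_mem _ (inv_mem hy) x)⟩
      rw [h5, mem_bot, mul_inv_eq_one, mul_inv_eq_iff_eq_mul] at this
      exact this
    rw [inf_eq_left.2 h6, Subgroup.map_eq_bot_iff, QuotientGroup.ker_mk'] at h5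
    exact h5

theorem abHall {X L : Subgroup G} (hs : Group.IsSolvable X) (hL : IsHallOf {p}ᶜ L X)
    (hc : IsMulCommutative L) :
    X ≤ normalizer ((CfsgL0.pCoreOf p X ⊔ L : Subgroup G) : Set G) ∧
      ∀ R : Subgroup G, R ≤ X → IsPGroup p R → L ≤ normalizer (R : Set G) → R ≤ CfsgL0.pCoreOf p X := by
  haveI := hc
  obtain ⟨h1, h2⟩ := abHall_top (p := p) hs (L := L.subgroupOf X)
    ⟨le_top, hL.2.1.subgroupOf X, by rw [relIndex_top_right]; exact hL.2.2⟩ inferInstance
  refine ⟨?_, fun R hR hR' hn => ?_⟩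
  · have := le_normalizer_map_subtype (pCore p X ⊔ L.subgroupOf X)
    rwa [Subgroup.map_sup, map_subgroupOf_eq_of_le hL.1] at this
  · have := map_mono (f := X.subtype) (h2 (R.subgroupOf X) (hR'.comap_subtype) fun x hx =>
      mem_normalizer_of_conj_mem fun y hy => (mem_normalizer_iff.1 (hn hx) y).1 hy)
    rwa [map_subgroupOf_eq_of_le hR] at this

/-- A minimal non-solvable simple group whose `p'`-subgroups are abelian, with a maximal
`p'`-subgroup `H`. -/
structure AbMin (p : ℕ) (H : Subgroup G) : Prop where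
  simple : IsSimpleGroup G
  nsolv : ¬ Group.IsSolvable G
  solv : ∀ X : Subgroup G, X ≠ ⊤ → Group.IsSolvable X
  ab : ∀ K : Subgroup G, IsPi {p}ᶜ (Nat.card K) → IsMulCommutative K
  pi : IsPi {p}ᶜ (Nat.card H)
  max : ∀ K : Subgroup G, IsPi {p}ᶜ (Nat.card K) → H ≤ K → K ≤ H

theorem isSolvable_of_top (h : Group.IsSolvable (⊤ : Subgroup G)) : Group.IsSolvable G :=
  solvable_of_surjective (f := (⊤ : Subgroup G).subtype) fun g => ⟨⟨g, trivial⟩, rfl⟩

namespace AbMin

variable {H : Subgroup G} (h : AbMin p H)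
include h

omit hp in
theorem normalizer_ne_top {Y : Subgroup G} (h1 : Y ≠ ⊥) (h2 : Group.IsSolvable Y) :
    normalizer (Y : Set G) ≠ ⊤ := fun e => by
  haveI := h.simple
  rcases (normalizer_eq_top_iff.1 e).eq_bot_or_eq_top with e1 | e1
  · exact h1 e1
  · subst e1; exact h.nsolv (isSolvable_of_top h2)

omit hp in
theorem centralizer_ne_top {y : G} (h1 : y ≠ 1) : centralizer ({y} : Set G) ≠ ⊤ := fun e =>
  h.normalizer_ne_top (Y := zpowers y) (by simpa using h1)
    (CfsgH2.isSolvable_of_isMulCommutative inferInstance) (eq_top_iff.2 fun g _ =>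
      mem_normalizer_of_conj_mem fun x hx => by
        obtain ⟨k, rfl⟩ := mem_zpowers_iff.1 hx
        have h2 : g * y = y * g := mem_centralizer_singleton_iff.1 (e ▸ mem_top g)
        rw [← conj_zpow, h2, mul_inv_cancel_right]
        exact zpow_mem (mem_zpowers y) k)

omit hp in
theorem hall {X : Subgroup G} (hX : X ≠ ⊤) (hH : H ≤ X) : IsHallOf {p}ᶜ H X := by
  obtain ⟨P, hP, h1⟩ := CfsgH2.exists_isHallOf_ge (h.solv X hX) hH h.pi
  rwa [le_antisymm (h.max P hP.2.1 h1) h1] at hP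

omit hp in
theorem le_centralizer {y : G} (hy : y ∈ H) : H ≤ centralizer ({y} : Set G) := fun x hx => by
  haveI := h.ab H h.pi
  exact mem_centralizer_singleton_iff.2 (setLike_mul_comm hx hy)

theorem inf_le {X R : Subgroup G} (hX : X ≠ ⊤) (hH : H ≤ X) (hR : IsPGroup p R)
    (hn : H ≤ normalizer (R : Set G)) : R ⊓ X ≤ CfsgL0.pCoreOf p X :=
  (abHall (h.solv X hX) (h.hall hX hH) (h.ab H h.pi)).2 _ inf_le_right hR.to_inf_left
    ((le_inf hn (hH.trans le_normalizer)).trans inf_normalizer_le_normalizer_inf)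

theorem le_of_inf_ne_bot {R₀ : Subgroup G} (h0 : IsPGroup p R₀) (hn0 : H ≤ normalizer (R₀ : Set G))
    (hmax : ∀ R : Subgroup G, IsPGroup p R → H ≤ normalizer (R : Set G) → R₀ ≤ R → R ≤ R₀)
    (I : Subgroup G) : ∀ R : Subgroup G, IsPGroup p R → H ≤ normalizer (R : Set G) →
      R ⊓ R₀ = I → I ≠ ⊥ → R ≤ R₀ := by
  induction I using WellFoundedGT.induction with
  | ind I ih =>
  intro R hR hn e hI
  by_contra hcon
  have h1 : I < R := lt_of_le_of_ne (e ▸ inf_le_left) fun e1 => hcon (by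
    rw [← e1, ← e]; exact inf_le_right)
  have h2 : I < R₀ := lt_of_le_of_ne (e ▸ inf_le_right) fun e1 => hcon (hmax R hR hn (by
    rw [← e1, ← e]; exact inf_le_left))
  set X := normalizer (I : Set G)
  have hX : X ≠ ⊤ := h.normalizer_ne_top hI (CfsgH2.isSolvable_of_isPGroup (hR.to_le h1.le))
  have hH : H ≤ X := by
    have := (le_inf hn hn0).trans inf_normalizer_le_normalizer_inf
    rwa [e] at this
  have h3 : I < CfsgL0.pCoreOf p X ⊓ R₀ := (CfsgH1.lt_inf_normalizer h0 h2).trans_le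
    (le_inf (h.inf_le hX hH h0 hn0) inf_le_left)
  have h4 := ih _ h3 _ isPGroup_pCoreOf (hH.trans le_normalizer_pCoreOf) rfl
    (ne_bot_of_gt h3)
  refine (CfsgH1.lt_inf_normalizer hR h1).not_ge ?_
  exact (le_inf inf_le_left ((h.inf_le hX hH hR hn).trans h4)).trans e.le

theorem exists_greatest {E : Subgroup G} (hE : E ≤ H) (he : ∀ x ∈ E, x ^ 2 = 1)
    (h4 : 4 < Nat.card E) : ∃ R₀ : Subgroup G, IsPGroup p R₀ ∧ H ≤ normalizer (R₀ : Set G) ∧
      ∀ R : Subgroup G, IsPGroup p R → H ≤ normalizer (R : Set G) → R ≤ R₀ := by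
  obtain ⟨R₀, ⟨h0, hn0⟩, hmax⟩ := (wellFounded_gt (α := Subgroup G)).has_min
    {R | IsPGroup p R ∧ H ≤ normalizer (R : Set G)} ⟨⊥, IsPGroup.of_bot, le_normalizer_of_normal⟩
  have hmax' : ∀ R : Subgroup G, IsPGroup p R → H ≤ normalizer (R : Set G) → R₀ ≤ R → R ≤ R₀ :=
    fun R h1 h2 h3 => (eq_of_le_of_not_lt h3 (hmax R ⟨h1, h2⟩)).ge
  refine ⟨R₀, h0, hn0, fun R hR hn => ?_⟩
  by_cases hR1 : R = ⊥
  · rw [hR1]; exact bot_le
  by_cases hR0 : R₀ = ⊥
  · exact hmax' R hR hn (by rw [hR0]; exact bot_le)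
  have hEc : IsMulCommutative E := CfsgH2.isMulCommutative_of_le hE (h.ab H h.pi)
  have key : ∀ R : Subgroup G, IsPGroup p R → H ≤ normalizer (R : Set G) → R ≠ ⊥ →
      ∃ B : Subgroup G, B ≤ E ∧ B.relIndex E ≤ 2 ∧ R ⊓ centralizer (B : Set G) ≠ ⊥ := by
    intro R h1 h2 h3
    by_contra hcon
    push Not at hcon
    refine h3 (eq_bot_iff.2 (CfsgH2.le_of_cocyclic hEc (hE.trans h2)
      (((h.pi.of_le hE).coprime (by rw [compl_compl]; exact isPGroup_iff_isPi.1 h1)))
      fun B hB => (hcon B hB.1 (Nat.le_of_dvd two_pos (hB.relIndex_dvd hEc he))).le))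
  obtain ⟨B, hB, hB2, hBR⟩ := key R hR hn hR1
  obtain ⟨B', hB', hB2', hBR'⟩ := key R₀ h0 hn0 hR0
  have h5 : B ⊓ B' ≠ ⊥ := fun e => by
    have h6 := relIndex_inf_le (H := B) (K := B') (L := E)
    rw [e, relIndex_bot_left] at h6
    have := h6.trans (Nat.mul_le_mul hB2 hB2')
    omega
  obtain ⟨z, hz, hz1⟩ := (bot_or_exists_ne_one _).resolve_left h5
  set X := centralizer ({z} : Set G)
  have hX : X ≠ ⊤ := h.centralizer_ne_top hz1
  have hH : H ≤ X := h.le_centralizer (hE (hB hz.1))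
  have h7 : CfsgL0.pCoreOf p X ≤ R₀ := h.le_of_inf_ne_bot h0 hn0 hmax' _ _ isPGroup_pCoreOf
    (hH.trans le_normalizer_pCoreOf) rfl fun e => hBR' (eq_bot_iff.2 (e ▸ le_inf
      ((inf_le_inf_left _ (centralizer_le (Set.singleton_subset_iff.2 hz.2))).trans
        (h.inf_le hX hH h0 hn0)) inf_le_left))
  exact h.le_of_inf_ne_bot h0 hn0 hmax' _ _ hR hn rfl fun e => hBR (eq_bot_iff.2 (e ▸ le_inf
    inf_le_left ((inf_le_inf_left _ (centralizer_le (Set.singleton_subset_iff.2 hz.1))).trans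
      ((h.inf_le hX hH hR hn).trans h7))))

/-- The unique maximal subgroup containing `H`. -/
theorem exists_M {E : Subgroup G} (hE : E ≤ H) (he : ∀ x ∈ E, x ^ 2 = 1)
    (h4 : 4 < Nat.card E) : ∃ M : Subgroup G, M ≠ ⊤ ∧ normalizer (H : Set G) ≤ M ∧
      ∀ X : Subgroup G, X ≠ ⊤ → H ≤ X → X ≤ M := by
  obtain ⟨R, hR, hn, hmax⟩ := h.exists_greatest hE he h4
  have hNR : normalizer (H : Set G) ≤ normalizer (R : Set G) := fun g hg => by
    refine CfsgH2.cj_eq_iff.1 (eq_of_le_of_card_ge (hmax _ (hR.map _) ?_)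
      (CfsgH2.card_cj g R).ge)
    have := map_mono (f := (MulAut.conj g).toMonoidHom) hn
    rw [show H.map (MulAut.conj g).toMonoidHom = H from CfsgH2.cj_eq_iff.2 hg] at this
    exact this.trans (le_normalizer_map _)
  have hH1 : H ≠ ⊥ := fun e => by
    have := card_le_of_le hE
    rw [e, card_bot] at this
    omega
  have hY : R ⊔ H ≠ ⊤ := fun e => by
    have h1 : normalizer (R : Set G) = ⊤ := eq_top_iff.2 (e ▸ sup_le le_normalizer hn)
    by_cases h2 : R = ⊥
    · rw [h2, bot_sup_eq] at e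
      exact h.nsolv (isSolvable_of_top (e ▸ CfsgH2.isSolvable_of_isMulCommutative (h.ab H h.pi)))
    · exact h.normalizer_ne_top h2 (CfsgH2.isSolvable_of_isPGroup hR) h1
  have hN : normalizer (H : Set G) ≤ normalizer ((R ⊔ H : Subgroup G) : Set G) :=
    CfsgH2.le_normalizer_sup hNR le_rfl
  refine ⟨_, h.normalizer_ne_top (fun e => hH1 (eq_bot_iff.2 (e ▸ le_sup_right)))
    (h.solv _ hY), hN, fun X hX hH x hx => ?_⟩
  have h1 := (abHall (h.solv X hX) (h.hall hX hH) (h.ab H h.pi)).1 hx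
  have h2 : cj x H ≤ R ⊔ H := by
    refine le_trans ?_ (sup_le_sup_right
      (hmax _ (isPGroup_pCoreOf (H := X)) (hH.trans le_normalizer_pCoreOf)) H)
    rw [← CfsgH2.cj_eq_iff.2 h1]
    exact CfsgH2.cj_mono x le_sup_right
  obtain ⟨y, hy, e⟩ := (h.hall hY le_sup_right).exists_cj_le (h.solv _ hY) h2
    (by rw [CfsgH2.card_cj]; exact h.pi)
  rw [← CfsgH2.cj_mul] at e
  have h3 := hN (CfsgH2.cj_eq_iff.1 (eq_of_le_of_card_ge e (CfsgH2.card_cj _ H).ge))
  exact (mul_mem_cancel_left (le_normalizer hy)).1 h3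

theorem mem_of_conj {M : Subgroup G} (hM : M ≠ ⊤) (hN : normalizer (H : Set G) ≤ M)
    (hu : ∀ X : Subgroup G, X ≠ ⊤ → H ≤ X → X ≤ M) {y g : G} (hy1 : y ≠ 1)
    (hy : (orderOf y).Coprime p) (h1 : y ∈ M) (h2 : g⁻¹ * y * g ∈ M) : g ∈ M := by
  have hHM : H ≤ M := le_normalizer.trans hN
  have key : ∀ y ∈ M, (orderOf y).Coprime p → ∃ m ∈ M, m * y * m⁻¹ ∈ H := fun y h1 h2 => by
    obtain ⟨m, hm, e⟩ := (h.hall hM hHM).exists_cj_le (h.solv _ hM) (zpowers_le.2 h1)
      (by rw [Nat.card_zpowers]; exact (isPi_compl_singleton_iff hp.out).2 h2)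
    exact ⟨m, hm, e (CfsgH2.conj_mem_cj m (mem_zpowers y))⟩
  obtain ⟨m, hm, e⟩ := key y h1 hy
  obtain ⟨m', hm', e'⟩ := key _ h2 (by
    rw [show g⁻¹ * y * g = g⁻¹ * y * g⁻¹⁻¹ by rw [inv_inv], orderOf_conj']; exact hy)
  set c := m * g * m'⁻¹ with hc
  have h3 : cj c H ≤ M := by
    refine le_trans ?_ (hu _ (h.centralizer_ne_top (y := m * y * m⁻¹) (by simpa using hy1))
      (h.le_centralizer e))
    rintro _ ⟨x, hx, rfl⟩
    have h4 := mem_centralizer_singleton_iff.1 (h.le_centralizer e' hx)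
    rw [mem_centralizer_singleton_iff]
    calc _ = c * (x * (m' * (g⁻¹ * y * g) * m'⁻¹)) * c⁻¹ := by simp [hc]; group
      _ = _ := by rw [h4]; simp [hc]; group
  obtain ⟨d, hd, e2⟩ := (h.hall hM hHM).exists_cj_le (h.solv _ hM) h3
    (by rw [CfsgH2.card_cj]; exact h.pi)
  rw [← CfsgH2.cj_mul] at e2
  have h5 := hN (CfsgH2.cj_eq_iff.1 (eq_of_le_of_card_ge e2 (CfsgH2.card_cj _ H).ge))
  have h6 := (mul_mem_cancel_left hd).1 h5
  exact (mul_mem_cancel_left hm).1 ((mul_mem_cancel_right (inv_mem hm')).1 h6)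

theorem false_of_rank (hp2 : p ≠ 2) (S : Sylow 2 G) (hS : (S : Subgroup G) ≤ H) {E : Subgroup G}
    (hE : E ≤ H) (he : ∀ x ∈ E, x ^ 2 = 1) (h4 : 4 < Nat.card E) : False := by
  obtain ⟨M, hM, hN, hu⟩ := h.exists_M hE he h4
  have hHM : H ≤ M := le_normalizer.trans hN
  have hfix : ∀ x g : G, x • (g : G ⧸ M) = g ↔ g⁻¹ * x * g ∈ M := fun x g => by
    rw [Quotient.smul_coe, eq_comm, QuotientGroup.eq, smul_eq_mul, mul_assoc]
  have huniq : ∀ y : G, y ≠ 1 → (orderOf y).Coprime p → ∀ α β : G ⧸ M, y • α = α → y • β = β →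
      α = β := by
    intro y hy1 hy α β
    induction α using QuotientGroup.induction_on with | H a =>
    induction β using QuotientGroup.induction_on with | H b =>
    intro h1 h2
    rw [hfix] at h1 h2
    rw [QuotientGroup.eq]
    refine h.mem_of_conj hM hN hu (y := a⁻¹ * y * a) (by simpa [mul_assoc, inv_mul_eq_one] using hy1)
      (by rw [show a⁻¹ * y * a = a⁻¹ * y * a⁻¹⁻¹ by rw [inv_inv], orderOf_conj']; exact hy) h1 ?_
    rwa [show (a⁻¹ * b)⁻¹ * (a⁻¹ * y * a) * (a⁻¹ * b) = b⁻¹ * y * b by group]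
  have h2p : Nat.Coprime 2 p := (Nat.coprime_primes Nat.prime_two hp.out).2 hp2.symm
  have hSE : SEAct G (G ⧸ M) := ⟨fun t ht => by
      obtain ⟨g, hg⟩ := exists_conj_mem_sylow_of_involution S ht
      exact ⟨(g⁻¹ : G), (hfix _ _).2 (by rw [inv_inv]; exact hHM (hS hg))⟩,
    fun t ht => huniq t (ne_one_of_orderOf ht) (by rw [ht]; exact h2p),
    fun α β => exists_smul_eq G α β⟩
  haveI : Nontrivial (G ⧸ M) := by
    rw [← Finite.one_lt_card_iff_nontrivial]
    exact one_lt_index_of_ne_top hM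
  obtain ⟨a, ha, ha1⟩ := (bot_or_exists_ne_one E).resolve_left fun e => by
    rw [e, card_bot] at h4; omega
  obtain ⟨b, hb, hb1⟩ : ∃ b ∈ E, b ∉ zpowers a := by
    by_contra hcon
    push Not at hcon
    have := card_le_of_le (show E ≤ zpowers a from hcon)
    rw [Nat.card_zpowers] at this
    have := orderOf_le_of_pow_eq_one two_pos (he a ha)
    omega
  have ha2 : orderOf a = 2 := orderOf_eq_prime (he a ha) ha1
  have hb2 : orderOf b = 2 := orderOf_eq_prime (he b hb) fun e => hb1 (e ▸ one_mem _)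
  have hab : a ≠ b := fun e => hb1 (e ▸ mem_zpowers a)
  have hc : a * b = b * a := mem_centralizer_singleton_iff.1 (h.le_centralizer (hE hb) (hE ha))
  obtain ⟨α, hα⟩ := hSE.ex a ha2
  obtain ⟨β, hβ⟩ := exists_ne α
  obtain ⟨t, ht, htα, hf⟩ := hSE.exists_fpf ha2 hα hβ
  obtain ⟨τ, hτ⟩ := hSE.ex t ht
  have hodd := hSE.odd_mul ha2 ht hα hτ fun e => htα (e ▸ hτ)
  obtain ⟨u, v, hu', hv', ⟨k, hk⟩, hv, e⟩ := CfsgH1.exists_pPart (p := p) (a * t)
  have hv1 : v = 1 := by
    obtain ⟨j, rfl⟩ := mem_zpowers_iff.1 hv'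
    have h5 := inverts_zpow (dih_inv_left (mul_self_of_orderOf ha2) (mul_self_of_orderOf ht)) j
    set v := (a * t) ^ j
    have h5' : a * v * a⁻¹ = v⁻¹ := by rw [h5, zpow_neg]
    have h6 : zpowers a ≤ normalizer (zpowers v : Set G) := zpowers_le.2
      (mem_normalizer_of_conj_mem fun x hx => by
        obtain ⟨i, rfl⟩ := mem_zpowers_iff.1 hx
        rw [inverts_zpow h5']; exact zpow_mem (mem_zpowers v) _)
    haveI := h.ab _ (IsPi.sup h6
      (by rw [Nat.card_zpowers, ha2]; exact (isPi_compl_singleton_iff hp.out).2 h2p)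
      (by rw [Nat.card_zpowers]; exact (isPi_compl_singleton_iff hp.out).2 hv))
    have h7 : a * v = v * a := setLike_mul_comm (s := zpowers a ⊔ zpowers v)
      (mem_sup_left (mem_zpowers a)) (mem_sup_right (mem_zpowers v))
    rw [h7, mul_inv_cancel_right] at h5'
    refine eq_one_of_odd_of_two_pow (a := 1) hodd ?_ (by rw [pow_one, sq]; exact eq_inv_iff_mul_eq_one.1 h5')
    rw [← zpow_natCast, ← zpow_mul, mul_comm, zpow_mul, zpow_natCast, pow_orderOf_eq_one, one_zpow]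
  rw [hv1, mul_one] at e
  obtain ⟨γ, hγ⟩ := hSE.exists_fix_of_pElt ha2 hb2 hab hc hp2 (fun α β hne x => by
    obtain ⟨u, v, hu', hv', ⟨k, hk⟩, hv, e⟩ := CfsgH1.exists_pPart (p := p) (x : G)
    have hv2 := zpowers_le.2 x.2 hv'
    have : v = 1 := by
      by_contra h9
      exact hne (huniq v h9 hv _ _ hv2.1 hv2.2)
    rw [this, mul_one] at e
    exact ⟨k, Subtype.ext (by rw [coe_pow, e, hk, coe_one])⟩) hk
  exact hf γ (e ▸ hγ)

end AbMin

theorem four_lt_card_omega (hp5 : 5 ≤ p) (hn : ¬ Group.IsSolvable G)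
    (ab : ∀ K : Subgroup G, IsPi {p}ᶜ (Nat.card K) → IsMulCommutative K) (S : Sylow 2 G) :
    ∃ E : Subgroup G, E ≤ S ∧ (∀ x ∈ E, x ^ 2 = 1) ∧ 4 < Nat.card E := by
  have h2p : Nat.Coprime 2 p := (Nat.coprime_primes Nat.prime_two hp.out).2 (by omega)
  have hS : IsPi {p}ᶜ (Nat.card S) := by
    obtain ⟨k, hk⟩ := S.2.exists_card_eq
    rw [hk]; exact (isPi_compl_singleton_iff hp.out).2 (h2p.pow_left k)
  haveI hc := ab S hS
  let E : Subgroup G :=
    { carrier := {x | x ∈ S ∧ x ^ 2 = 1}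
      one_mem' := ⟨one_mem _, one_pow _⟩
      mul_mem' := fun {a b} ha hb => ⟨mul_mem ha.1 hb.1, by
        rw [(show Commute a b from setLike_mul_comm (s := (S : Subgroup G)) ha.1 hb.1).mul_pow,
          ha.2, hb.2, one_mul]⟩
      inv_mem' := fun {a} ha => ⟨inv_mem ha.1, by rw [inv_pow, ha.2, inv_one]⟩ }
  refine ⟨E, fun x hx => hx.1, fun x hx => hx.2, ?_⟩
  by_contra h4
  refine hn (isSolvable_of_top (solvable_of_pNil_two
    ((CfsgH1.isSylowIn_top S).pNil_of_normalizer_le fun g hg => ?_)))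
  obtain ⟨u, v, hu', hv', ⟨k, hk⟩, hv, e⟩ := CfsgH1.exists_pPart (p := p) g
  have hu := zpowers_le.2 hg.2 hu'
  have hv2 := zpowers_le.2 hg.2 hv'
  rw [e]
  refine mul_mem ?_ ?_
  · have hP := isPGroup_zpowers_of_pow hk
    have hE : ∀ c ∈ zpowers u, ∀ x ∈ E, c * x * c⁻¹ ∈ E := fun c hc x hx =>
      ⟨(mem_normalizer_iff.1 (zpowers_le.2 hu hc) x).1 hx.1, by rw [conj_pow, hx.2]; simp⟩
    letI : MulAction (zpowers u) E :=
      { smul := fun c x => ⟨c * x * (c : G)⁻¹, hE c c.2 x x.2⟩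
        one_smul := fun x => Subtype.ext (show ((1 : zpowers u) : G) * x * ((1 : zpowers u) : G)⁻¹ = x by simp)
        mul_smul := fun c d x => Subtype.ext (show ((c * d : zpowers u) : G) * x * ((c * d : zpowers u) : G)⁻¹ =
          c * (d * x * (d : G)⁻¹) * (c : G)⁻¹ by simp [mul_assoc]) }
    have h5 := hP.card_modEq_card_fixedPoints E
    have h6 : Nat.card (fixedPoints (zpowers u) E) ≤ Nat.card E := Finite.card_subtype_le _
    have h7 := Nat.ModEq.eq_of_lt_of_lt h5 (by omega) (by omega)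
    have h8 : fixedPoints (zpowers u) E = Set.univ :=
      Set.eq_of_subset_of_ncard_le (Set.subset_univ _) (by rw [Set.ncard_univ]; exact h7.le)
    refine mem_centralizer_iff.2 fun y hy => ?_
    have := CfsgH2.aut_fix_abelian (p := 2) (α := MulAut.conj u)
      (Nat.Coprime.coprime_dvd_left ((orderOf_map_dvd _ u).trans (orderOf_dvd_of_pow_eq_one hk))
        (h2p.symm.pow_left k)) S.2 hc (fun x hx => (mem_normalizer_iff.1 hu x).1 hx)
      (fun x hx e => by
        have h9 : (⟨x, hx, e⟩ : E) ∈ fixedPoints (zpowers u) E := by rw [h8]; trivial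
        exact congrArg Subtype.val (h9 ⟨u, mem_zpowers u⟩)) y hy
    rw [MulAut.conj_apply, mul_inv_eq_iff_eq_mul] at this
    exact this.symm
  · haveI := ab _ (IsPi.sup (zpowers_le.2 hv2)
      (by rw [Nat.card_zpowers]; exact (isPi_compl_singleton_iff hp.out).2 hv) hS)
    exact mem_centralizer_iff.2 fun y hy => setLike_mul_comm (s := zpowers v ⊔ S)
      (mem_sup_right hy) (mem_sup_left (mem_zpowers v))

theorem abPP_quot {q : ℕ} [hq : Fact q.Prime] (N : Subgroup G) [N.Normal] (hN : IsPGroup q N)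
    (ab : ∀ K : Subgroup G, IsPi {p}ᶜ (Nat.card K) → IsMulCommutative K)
    (K : Subgroup (G ⧸ N)) (hK : IsPi {p}ᶜ (Nat.card K)) : IsMulCommutative K := by
  let π := QuotientGroup.mk' N
  have hπ := QuotientGroup.mk'_surjective N
  suffices ∃ L : Subgroup G, IsPi {p}ᶜ (Nat.card L) ∧ K ≤ L.map π by
    obtain ⟨L, h1, h2⟩ := this
    haveI := ab L h1
    exact CfsgH2.isMulCommutative_of_le h2 inferInstance
  by_cases e : q = p
  · subst e
    have h1 : (N.subgroupOf (K.comap π)).index = Nat.card K := by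
      rw [← relIndex, relIndex_eq_card_map, map_comap_eq_self_of_surjective hπ]
    obtain ⟨L, hL⟩ := exists_right_complement'_of_coprime (N := N.subgroupOf (K.comap π)) (by
      rw [h1]
      exact (((isPGroup_iff_isPi.1 hN).subgroupOf _).coprime hK))
    refine ⟨L.map (K.comap π).subtype, IsPi.map (by rw [← hL.symm.index_eq_card, h1]; exact hK) _,
      fun k hk => ?_⟩
    obtain ⟨g, rfl⟩ := hπ k
    obtain ⟨⟨n, l⟩, e, -⟩ := hL.existsUnique ⟨g, hk⟩
    refine ⟨l, mem_map_of_mem _ l.2, ?_⟩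
    have h2 : g = (n : K.comap π) * ((l : K.comap π) : G) := (congrArg Subtype.val e).symm
    have h3 : π (n : K.comap π) = 1 := (QuotientGroup.eq_one_iff _).2 n.2
    change _ = π g
    rw [h2, map_mul, h3, one_mul]
  · refine ⟨K.comap π, hK.comap π ?_, (map_comap_eq_self_of_surjective hπ K).ge⟩
    rw [QuotientGroup.ker_mk']
    exact (isPGroup_iff_isPi.1 hN).mono (by rintro _ rfl; exact e)

universe u

theorem abPP_solvable (hp5 : 5 ≤ p) (n : ℕ) : ∀ (G : Type u) [Group G] [Finite G], Nat.card G = n →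
    (∀ K : Subgroup G, IsPi {p}ᶜ (Nat.card K) → IsMulCommutative K) → Group.IsSolvable G := by
  induction n using Nat.strong_induction_on with
  | _ n ih =>
  intro G _ _ hn ab
  subst hn
  by_contra hns
  have hsub : ∀ X : Subgroup G, X ≠ ⊤ → Group.IsSolvable X := fun X hX =>
    ih _ (by rw [← card_top (G := G)]; exact CfsgH2.card_lt_of_lt (lt_top_iff_ne_top.2 hX)) X rfl
      fun K hK => by
        have := ab (K.map X.subtype) (hK.map _)
        exact ⟨⟨fun a b => Subtype.ext (Subtype.ext (setLike_mul_comm (s := K.map X.subtype)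
          (mem_map_of_mem _ a.2) (mem_map_of_mem _ b.2)))⟩⟩
  have hsimple : IsSimpleGroup G := by
    haveI : Nontrivial G := by
      by_contra h; rw [not_nontrivial_iff_subsingleton] at h; exact hns inferInstance
    refine ⟨fun N hN => ?_⟩
    by_contra hcon
    push Not at hcon
    haveI := hsub N hcon.2
    haveI : Nontrivial N := (nontrivial_iff_ne_bot N).2 hcon.1
    obtain ⟨q, Q, hq, hQc, hQ, hQp, -⟩ := CfsgH2.exists_char_pgroup_of_solvable N
    haveI := Fact.mk hq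
    set R := Q.map N.subtype
    have hR : IsPGroup q R := hQp.map _
    haveI := CfsgH2.isSolvable_of_isPGroup hR
    haveI : Group.IsSolvable (G ⧸ R) := by
      refine ih _ ?_ _ rfl (abPP_quot R hR ab)
      rw [card_eq_card_quotient_mul_card_subgroup R]
      exact lt_mul_of_one_lt_right Nat.card_pos ((one_lt_card_iff_ne_bot R).2
        fun e => hQ ((map_eq_bot_iff_of_injective _ N.subtype_injective).1 e))
    exact hns (solvable_of_ker_le_range R.subtype (QuotientGroup.mk' R) (by simp))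
  obtain ⟨S⟩ : Nonempty (Sylow 2 G) := inferInstance
  obtain ⟨E, hE, he, h4⟩ := four_lt_card_omega hp5 hns ab S
  have h2p : Nat.Coprime 2 p := (Nat.coprime_primes Nat.prime_two hp.out).2 (by omega)
  obtain ⟨H, ⟨h1, h2⟩, hmax⟩ := (wellFounded_gt (α := Subgroup G)).has_min
    {H | IsPi {p}ᶜ (Nat.card H) ∧ (S : Subgroup G) ≤ H} ⟨S, by
      obtain ⟨k, hk⟩ := S.2.exists_card_eq
      rw [hk]; exact (isPi_compl_singleton_iff hp.out).2 (h2p.pow_left k), le_rfl⟩
  exact AbMin.false_of_rank ⟨hsimple, hns, hsub, ab, h1, fun K hK hHK =>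
    (eq_of_le_of_not_lt hHK (hmax K ⟨hK, h2.trans hHK⟩)).ge⟩ (by omega) S h2 (hE.trans h2) he h4

end CfsgH4
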