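import Cfsg.Agent.SF.Final
import Cfsg.Agent.H4.ZStar
import Cfsg.Agent.L0.OddOrder

/-! Sets of `p`-transpositions, `p ≥ 5`. -/

set_option linter.unusedSectionVars false

namespace CfsgH4

open Subgroup MulAction CfsgSF

universe u

/-- products of two members of `D` have order `1`, `2` or `p` -/
structure PT {G : Type*} [Group G] (p : ℕ) (D : Set G) : Prop where
  pr : p.Prime
  five : 5 ≤ p
  sq : ∀ d ∈ D, d * d = 1
  conj : ∀ g, ∀ d ∈ D, g * d * g⁻¹ ∈ D
  ord : ∀ d ∈ D, ∀ e ∈ D, d * e = e * d ∨ (d * e) ^ p = 1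

theorem pt_count {G Ω : Type u} [Group G] [Finite G] [MulAction G Ω] [Nontrivial Ω]
    {A : Ω → Subgroup G} (h : SFH G Ω A) (gen : (⨆ α, A α) = ⊤) (four : ∀ α, 4 ≤ Nat.card (A α))
    {p : ℕ} (hp : PT p (DD A)) : False := by
  haveI := h.finite
  haveI : Fact p.Prime := ⟨hp.pr⟩
  obtain ⟨α, β, hne⟩ := exists_pair_ne Ω
  obtain ⟨X⟩ := h.locTop gen (specSF G Ω A h gen) hne (four α)
  have hK := X.K_card
  rw [A0_empty] at hK
  have := four α
  obtain ⟨k, hk, k1⟩ := X.K.bot_or_exists_ne_one.resolve_left fun e => by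
    rw [e, card_bot] at hK; omega
  have kp : k ^ p = 1 := by
    obtain ⟨t₁, h1, t₂, h2, rfl⟩ := (X.mem_K k).1 hk
    exact (hp.ord _ h1.1 _ h2.1).resolve_left fun e =>
      k1 (X.K_sq h hk (sq_of_comm (h.DD_sq h1.1) (h.DD_sq h2.1) e))
  have nd : ¬ p ∣ Nat.card (Set.univ : Set Ω) := fun d => by
    have c := card_modEq_fix1 (p := p) (j := 1) (g := k) (by rwa [pow_one])
      (S := (Set.univ : Set Ω)) (Set.toFinite _) fun _ _ => trivial
    have e : Nat.card {c // c ∈ (Set.univ : Set Ω) ∧ k • c = c} = 2 := by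
      rw [← Set.ncard_pair hne, ← Nat.card_coe_set_eq]
      refine Nat.card_congr (Equiv.subtypeEquivRight fun γ => ⟨fun e => ?_, ?_⟩)
      · exact X.K_fix k hk k1 γ (h.mem_Fx_empty γ) e.2
      · rintro (rfl | rfl)
        exacts [⟨trivial, X.K_α h hk⟩, ⟨trivial, X.K_β h hk⟩]
    rw [e] at c
    have := Nat.le_of_dvd two_pos ((c.dvd_iff dvd_rfl).1 d)
    have := hp.five
    omega
  obtain ⟨a, ha, a1⟩ := h.ne α
  have c1 := dc_le (S := {x | x ∈ DD A ∧ x ∉ A α}) (T := ({α}ᶜ : Set Ω)) (Set.toFinite _)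
    (Set.toFinite _) (fun x δ => x • δ = a • δ) (m := 1) (n := Nat.card (A α) - 2) (by
      rintro x ⟨⟨γ, hγ⟩, hx⟩
      have x1 : x ≠ 1 := fun e => hx (e ▸ one_mem _)
      obtain ⟨δ, -, e⟩ := exists_fix1 (p := p) (j := 1) (g := a * x) (by
        rw [pow_one]
        exact (hp.ord _ (mem_DD ha) _ ⟨γ, hγ⟩).resolve_left fun e =>
          hx (h.mem_of_DD ⟨γ, hγ⟩ (h.fix_of_comm ha a1 e.symm))) (S := (Set.univ : Set Ω))
        (fun _ _ => trivial) nd
      have e' : x • δ = a • δ := by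
        rw [mul_smul, ← eq_inv_smul_iff, h.inv ha] at e; exact e
      refine (Set.ncard_pos (Set.toFinite _)).2 ⟨δ, ?_, e'⟩
      rintro rfl
      exact hx (h.mem_of_DD ⟨γ, hγ⟩ (e'.trans (h.fix _ _ ha)))) (by
      intro δ hδ
      have n : δ ≠ a • δ := fun e => a1 (h.eq_one ha hδ e.symm)
      have c := h.card_Jc (h.mem_Fx_empty δ) n (h.mem_Fx_empty _)
      have m : a ∈ Jc A ∅ δ (a • δ) := ⟨mem_DD ha, cz_empty a, rfl⟩
      rw [A0_empty, h.card_A_eq δ α, Nat.card_coe_set_eq,
        ← Set.ncard_diff_singleton_add_one m] at c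
      refine (Set.ncard_le_ncard (t := Jc A ∅ δ (a • δ) \ {a}) (fun x hx =>
        ⟨⟨hx.1.1, cz_empty x, hx.2⟩, fun e => hx.1.2 (e ▸ ha)⟩)).trans (by omega))
  have c2 := h.ncard_Cz (h.mem_Fx_empty α)
  rw [A0_empty, show Fx A ∅ = Set.univ from Set.eq_univ_of_forall h.mem_Fx_empty,
    show {l | l ∈ DD A ∧ l ≠ 1 ∧ l ∈ centralizer (∅ : Set G)} =
      {x | x ∈ DD A ∧ x ∉ A α} ∪ (A α \ {1}) by
      ext l
      refine ⟨fun hl => ?_, ?_⟩
      · by_cases e : l ∈ A α
        exacts [Or.inr ⟨e, hl.2.1⟩, Or.inl ⟨hl.1, e⟩]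
      · rintro (hl | hl)
        exacts [⟨hl.1, fun e => hl.2 (e ▸ one_mem _), cz_empty l⟩, ⟨mem_DD hl.1, hl.2, cz_empty l⟩],
    Set.ncard_union_eq (Set.disjoint_left.2 fun l h1 h2 => h1.2 h2.1), Set.ncard_univ] at c2
  have c3 := ncard_sharp (A α)
  have c4 := Set.ncard_add_ncard_compl ({α} : Set Ω)
  rw [Set.ncard_singleton] at c4
  have c5 : 0 < ({α}ᶜ : Set Ω).ncard := (Set.ncard_pos (Set.toFinite _)).2 ⟨β, hne.symm⟩
  obtain ⟨m, hm⟩ : ∃ m, Nat.card (A α) = m + 2 := ⟨Nat.card (A α) - 2, by omega⟩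
  rw [hm] at c1 c2 c3
  rw [← c4] at c2
  simp only [Nat.add_sub_cancel, show m + 2 - 1 = m + 1 from rfl] at c1 c2
  nlinarith

variable {G : Type u} [Group G] [Finite G]

namespace PT

variable {p : ℕ} {D : Set G} (h : PT p D)
include h

theorem odd : Odd p := h.pr.odd_of_ne_two (by have := h.five; omega)

theorem eq_one {x : G} (hx : x ^ p = 1) {k : ℕ} (h2 : x ^ 2 ^ k = 1) : x = 1 := by
  rw [← orderOf_eq_one_iff]
  exact Nat.eq_one_of_dvd_coprimes ((Nat.coprime_two_right.2 h.odd).pow_right k)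
    (orderOf_dvd_of_pow_eq_one hx) (orderOf_dvd_of_pow_eq_one h2)

theorem comm_of {d e : G} (hd : d ∈ D) (he : e ∈ D) {k : ℕ} (h2 : (d * e) ^ 2 ^ k = 1) :
    d * e = e * d :=
  (h.ord d hd e he).elim id fun e1 => comm_of_sq (h.sq d hd) (h.sq e he) (by
    rw [h.eq_one e1 h2, one_mul])

theorem conj' {g d : G} (hg : g * g = 1) (hd : d ∈ D) : g * d * g ∈ D := by
  have := h.conj g d hd
  rwa [CfsgBS.inv_eq_of_sq hg] at this

theorem comm_of' {d e : G} (hd : d ∈ D) (he : e ∈ D) (h2 : d * (e * d * e) = e * d * e * d) :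
    d * e = e * d :=
  h.comm_of hd he (k := 2) (by
    rw [← sq_of_comm (h.sq d hd) (h.sq _ (h.conj' (h.sq e he) hd)) h2, show 2 ^ 2 = 4 from rfl]
    simp only [pow_succ, pow_zero, one_mul, mul_assoc])

theorem cen {d e z : G} (hd : d ∈ D) (he : e ∈ D) (n : d * e ≠ e * d) (z2 : z * z = 1)
    (zd : z * d = d * z) (ze : z * e = e * z) (hz : d * z ∈ D) : z = 1 := by
  have c : Commute (d * e) z := (Commute.mul_right zd ze).symm
  rcases h.ord _ hz e he with e1 | e1
  · exact absurd (mul_right_cancel (b := z) (by rw [mul_assoc, ← ze, ← mul_assoc, e1, mul_assoc])) n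
  · obtain ⟨k, hk⟩ := h.odd
    rwa [mul_assoc, ze, ← mul_assoc, c.mul_pow, (h.ord d hd e he).resolve_left n, one_mul, hk,
      pow_succ, pow_mul, pow_two, z2, one_pow, one_mul] at e1

theorem cw {a b d : G} (ha : a ∈ D) (hb : b ∈ D) (hd : d ∈ D) (ab : a * b = b * a) (n : a ≠ b)
    (e : d * (a * b) = a * b * d) : d * a = a * d := by
  by_contra hn
  refine n ?_
  have := h.cen ha hd (Ne.symm hn) (sq_of_comm (h.sq a ha) (h.sq b hb) ab)
    (by rw [mul_assoc, ← ab]) e.symm (by rwa [sq_mul_cancel (h.sq a ha)])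
  rw [← sq_mul_cancel (h.sq a ha) b, this, mul_one]

theorem isConj {a c : G} (ha : a ∈ D) (hc : c ∈ D) (n : a * c ≠ c * a) : IsConj c a := by
  obtain ⟨k, hk⟩ := h.odd
  exact isConj_iff.2 ⟨_, dih_conj_of_pow_odd (h.sq a ha) (h.sq c hc)
    (hk ▸ (h.ord a ha c hc).resolve_left n)⟩

theorem fixall (hO : ∀ N : Subgroup G, N.Normal → IsPGroup 2 N → N = ⊥)
    (tr : ∀ x ∈ D, ∀ y ∈ D, ∀ z ∈ D, x * y = y * x → y * z = z * y → x * z = z * x) {a b : G}
    (ha : a ∈ D) (hb : b ∈ D) (ab : a * b = b * a)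
    (hw : ∀ x ∈ D, x * (a * b * x * (a * b)) = a * b * x * (a * b) * x) : a = b := by
  haveI : Fact (Nat.Prime 2) := ⟨Nat.prime_two⟩
  have w2 := sq_of_comm (h.sq a ha) (h.sq b hb) ab
  have := hO _ inferInstance (baer_suzuki_elt (p := 2) (a * b) fun g => by
    have ha' := h.conj g a ha
    have hb' := h.conj g b hb
    have ab' : g * a * g⁻¹ * (g * b * g⁻¹) = g * b * g⁻¹ * (g * a * g⁻¹) := by
      calc _ = g * (a * b) * g⁻¹ := by group
        _ = _ := by rw [ab]; group
    rw [show g * (a * b) * g⁻¹ = g * a * g⁻¹ * (g * b * g⁻¹) by group]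
    generalize g * a * g⁻¹ = x, g * b * g⁻¹ = y at ha' hb' ab'
    generalize a * b = w at w2 hw
    have hx := h.conj' w2 ha'
    have hy := h.conj' w2 hb'
    have c1 : Commute x (w * x * w) := hw x ha'
    have c2 : Commute y (w * y * w) := hw y hb'
    have c3 : Commute x (w * y * w) := tr _ ha' _ hb' _ hy ab' c2
    have c4 : Commute y (w * x * w) := tr _ hb' _ ha' _ hx ab'.symm c1
    have c5 := (c1.mul_right c3).mul_left (c4.mul_right c2)
    have xy := sq_of_comm (h.sq x ha') (h.sq y hb') ab'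
    have e : w * x * w * (w * y * w) = w * (x * y) * w := by
      simp only [mul_assoc, sq_mul_cancel w2]
    rw [e] at c5
    refine dih_isPGroup w2 xy (k := 2) ?_
    generalize x * y = v at xy c5
    have := sq_of_comm (a := w * v * w) (by simp only [mul_assoc, sq_mul_cancel w2,
      sq_mul_cancel xy, w2]) xy c5.symm
    rw [← this, show 2 ^ 2 = 4 from rfl]
    simp only [pow_succ, pow_zero, one_mul, mul_assoc])
  have : a * b = 1 := mem_bot.1 (this ▸ subset_normalClosure (Set.mem_singleton _))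
  rw [← sq_mul_cancel (h.sq a ha) b, this, mul_one]

theorem sub (H : Subgroup G) : PT p (H.subtype ⁻¹' D) :=
  ⟨h.pr, h.five, fun d hd => Subtype.ext (h.sq _ hd), fun g d hd => h.conj g _ hd,
    fun d hd e he => (h.ord _ hd _ he).imp Subtype.ext Subtype.ext⟩

theorem map {G' : Type u} [Group G'] (f : G →* G') (hf : Function.Surjective f) : PT p (f '' D) := by
  refine ⟨h.pr, h.five, ?_, fun g => ?_, ?_⟩
  · rintro _ ⟨d, hd, rfl⟩
    rw [← map_mul, h.sq d hd, map_one]
  · obtain ⟨g, rfl⟩ := hf g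
    rintro _ ⟨d, hd, rfl⟩
    exact ⟨_, h.conj g d hd, by simp⟩
  · rintro _ ⟨d, hd, rfl⟩ _ ⟨e, he, rfl⟩
    exact (h.ord d hd e he).imp (fun e => by rw [← map_mul, e, map_mul])
      fun e => by rw [← map_mul, ← map_pow, e, map_one]

end PT

/-- the main property -/
def PP (G : Type u) [Group G] (p : ℕ) : Prop :=
  ∀ D : Set G, PT p D → ∀ a ∈ D, ∀ b ∈ D, ∀ c ∈ D, a * b = b * a → a * c ≠ c * a → b * c ≠ c * b →
    c * (a * b * c * (a * b)) = a * b * c * (a * b) * c

theorem pt_core {p : ℕ} (IH : ∀ H : Subgroup G, H ≠ ⊤ → PP H p)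
    (hO : ∀ N : Subgroup G, N.Normal → IsPGroup 2 N → N = ⊥) : PP G p := by
  haveI : Fact (Nat.Prime 2) := ⟨Nat.prime_two⟩
  have zc : ∀ z : G, z * z = 1 → centralizer {z} = ⊤ → z = 1 := fun z z2 hz => by
    have := hO (zpowers z) ⟨fun x hx g => by
      obtain ⟨n, rfl⟩ := mem_zpowers_iff.1 hx
      rw [← conj_zpow, conj_eq_of_comm (mem_c1.1 (hz ▸ mem_top g)).symm]
      exact hx⟩ (isP_zpowers (j := 1) (by rw [pow_one, sq, z2]))
    exact mem_bot.1 (this ▸ mem_zpowers z)
  have IH' : ∀ D : Set G, PT p D → ∀ H : Subgroup G, H ≠ ⊤ → ∀ a ∈ D, ∀ b ∈ D, ∀ c ∈ D, a ∈ H →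
      b ∈ H → c ∈ H → a * b = b * a → a * c ≠ c * a → b * c ≠ c * b →
      c * (a * b * c * (a * b)) = a * b * c * (a * b) * c :=
    fun D h H hH a ha b hb c hc aH bH cH ab ac bc => congrArg Subtype.val
      (IH H hH _ (h.sub H) ⟨a, aH⟩ ha ⟨b, bH⟩ hb ⟨c, cH⟩ hc (Subtype.ext ab)
        (fun e => ac (congrArg Subtype.val e)) fun e => bc (congrArg Subtype.val e))
  have tri : ∀ D : Set G, PT p D → ∀ a ∈ D, ∀ b ∈ D, ∀ c ∈ D, a * b = b * a → a * c ≠ c * a →
      b * c ≠ c * b → c * (a * b * c * (a * b)) = a * b * c * (a * b) * c ∨ a * b ∈ D :=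
    fun D h a ha b hb c hc ab ac bc => by
      by_cases n : a = b
      · left; rw [n, h.sq b hb]; group
      have w2 := sq_of_comm (h.sq a ha) (h.sq b hb) ab
      refine or_iff_not_imp_left.2 fun hn => ?_
      have e1 := (h.ord c hc _ (h.conj' w2 hc)).resolve_left hn
      have c2 := h.sq c hc
      have z2 : (c * (a * b)) ^ p * (c * (a * b)) ^ p = 1 := by
        rw [← e1, ← sq, ← pow_mul, mul_comm p, pow_mul, sq]; simp only [mul_assoc]
      have zm : (c * (a * b)) ^ p ∈ zpowers (c * (a * b)) := pow_mem (mem_zpowers _) _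
      have zc1 := dih_commute_left c2 w2 zm z2
      have zc2 := dih_commute_right c2 w2 zm z2
      have hd : (c * (a * b)) ^ p * (a * b) ∈ D := by
        obtain ⟨k, hk⟩ := h.odd
        have := h.conj ((c * (a * b)) ^ (k : ℤ)) c hc
        rw [dih_conj_left c2 w2] at this
        rw [hk, pow_succ, mul_assoc, mul_sq_cancel w2]
        exact_mod_cast this
      have e2 : (c * (a * b)) ^ p * (a * b) * (a * b) = a * b * ((c * (a * b)) ^ p * (a * b)) := by
        rw [← mul_assoc (a * b), ← zc2.eq]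
      have d1 : Commute _ a := h.cw ha hb hd ab n e2
      have d2 : Commute _ b := h.cw hb ha hd ab.symm (Ne.symm n) (by rw [← ab]; exact e2)
      have k : ∀ x, Commute ((c * (a * b)) ^ p * (a * b)) x → Commute (a * b) x →
          x ∈ centralizer {(c * (a * b)) ^ p} := fun x h1 h2 => mem_c1.2 (by
        have := h1.mul_left h2
        rwa [mul_sq_cancel w2] at this)
      rw [zc _ z2 (by
        by_contra hH
        exact hn (IH' D h _ hH a ha b hb c hc
          (k a d1 ((Commute.refl a).mul_left ab.symm)) (k b d2 (Commute.mul_left ab (Commute.refl b)))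
          (mem_c1.2 zc1) ab ac bc)), one_mul] at hd
      exact hd
  intro D₀ h₀ a ha₀ b hb₀ c hc₀ ab ac bc
  by_contra hn
  have top : ∀ H : Subgroup G, a ∈ H → b ∈ H → c ∈ H → H = ⊤ := fun H aH bH cH => by
    by_contra hH
    exact hn (IH' D₀ h₀ H hH a ha₀ b hb₀ c hc₀ aH bH cH ab ac bc)
  set D := {x | IsConj c x} with hD
  have le : D ⊆ D₀ := fun x hx => by
    obtain ⟨g, rfl⟩ := isConj_iff.1 hx
    exact h₀.conj g c hc₀
  have h : PT p D := ⟨h₀.pr, h₀.five, fun d hd => h₀.sq d (le hd),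
    fun g d hd => hd.trans (isConj_iff.2 ⟨g, rfl⟩), fun d hd e he => h₀.ord d (le hd) e (le he)⟩
  have hc : c ∈ D := IsConj.refl c
  have ha : a ∈ D := h₀.isConj ha₀ hc₀ ac
  have hb : b ∈ D := h₀.isConj hb₀ hc₀ bc
  have ne1 : ∀ x ∈ D, x ≠ 1 := fun x hx e => by
    rw [e, hD, Set.mem_setOf_eq, isConj_one_left] at hx
    exact ac (by rw [hx]; simp)
  have hw := (tri D h a ha b hb c hc ab ac bc).resolve_left hn
  have n : a ≠ b := fun e => ne1 _ hw (by rw [e, h.sq b hb])
  have e1 : ∀ e ∈ D, a * e = e * a → b * e = e * b := fun e he ae => by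
    by_contra be
    exact ne1 a ha (h.cen hb he be (h.sq a ha) ab ae (ab ▸ hw))
  have e1' : ∀ e ∈ D, b * e = e * b → a * e = e * a := fun e he be => by
    by_contra ae
    exact ne1 b hb (h.cen ha he ae (h.sq b hb) ab.symm be hw)
  have tr0 : ∀ x ∈ D, ∀ y ∈ D, x * y = y * x → y * a = a * y → x * a = a * x :=
    fun x hx y hy xy ya => by
      by_contra xa
      have := IH' D h (centralizer {y}) (fun e => ne1 y hy (zc y (h.sq y hy) e)) a ha b hb x hx
        (mem_c1.2 ya) (mem_c1.2 (e1 y hy ya.symm).symm) (mem_c1.2 xy.symm) ab (Ne.symm xa)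
        fun e => xa (e1' x hx e).symm
      exact xa (h.cw ha hb hx ab n (h.comm_of' hx hw this))
  have tr : ∀ x ∈ D, ∀ y ∈ D, ∀ z ∈ D, x * y = y * x → y * z = z * y → x * z = z * x :=
    fun x hx y hy z hz xy yz => by
      obtain ⟨g, rfl⟩ := isConj_iff.1 (ha.symm.trans hz)
      have := tr0 _ (h.conj g⁻¹ x hx) _ (h.conj g⁻¹ y hy) (by
        calc _ = g⁻¹ * (x * y) * g := by group
          _ = _ := by rw [xy]; group) (by
        calc _ = g⁻¹ * (y * (g * a * g⁻¹)) * g := by group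
          _ = _ := by rw [yz]; group)
      calc _ = g * (g⁻¹ * x * g⁻¹⁻¹ * a) * g⁻¹ := by group
        _ = _ := by rw [this]; group
  have pr : ∀ x ∈ D, ∀ y ∈ D, x * y = y * x → x * y = 1 ∨ x * y ∈ D := fun x hx y hy xy => by
    refine or_iff_not_imp_right.2 fun hn => ?_
    rw [h.fixall hO tr hx hy xy fun z hz => ?_, h.sq y hy]
    by_cases xz : x * z = z * x
    · have : Commute (x * y) z := Commute.mul_left xz (tr y hy x hx z hz xy.symm xz)
      rw [this.eq, mul_sq_cancel (sq_of_comm (h.sq x hx) (h.sq y hy) xy)]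
    · exact (tri D h x hx y hy z hz xy xz fun e => xz (tr x hx y hy z hz xy e)).resolve_right hn
  let V : Subgroup G :=
    { carrier := {y | y = 1 ∨ y ∈ D ∧ y * a = a * y}
      one_mem' := Or.inl rfl
      mul_mem' := by
        rintro x y (rfl | hx) (rfl | hy)
        · simp
        · exact Or.inr (by rwa [one_mul])
        · exact Or.inr (by rwa [mul_one])
        · exact (pr x hx.1 y hy.1 (tr x hx.1 a ha y hy.1 hx.2 hy.2.symm)).imp_right fun e =>
            ⟨e, Commute.mul_left hx.2 hy.2⟩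
      inv_mem' := by
        rintro x (rfl | hx)
        · simp
        · exact Or.inr (by rwa [CfsgBS.inv_eq_of_sq (h.sq x hx.1)]) }
  have aV : a ∈ V := Or.inr ⟨ha, rfl⟩
  have nV : ∀ x ∈ D, x ∈ normalizer (V : Set G) → x * a = a * x := fun x hx hN => by
    rcases (mem_normalizer_iff.1 hN a).1 aV with e | e
    · exact absurd e (ne1 _ (h.conj x a ha))
    · rw [CfsgBS.inv_eq_of_sq (h.sq x hx)] at e
      exact (h.comm_of' ha hx e.2.symm).symm
  have hS := cosV_SFH (V := V) le_rfl le_normalizer (by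
      rintro x (rfl | hx)
      exacts [one_mul 1, h.sq x hx.1]) ⟨a, aV, ne1 a ha⟩ (by
      rintro g hg v (rfl | hv) hN
      · rfl
      refine absurd (mem_normalizer_fintype ?_) hg
      rintro y (rfl | hy)
      · exact Or.inl (by simp)
      refine Or.inr ⟨h.conj g y hy.1, tr _ (h.conj g y hy.1) _ (h.conj g v hv.1) a ha ?_
        (nV _ (h.conj g v hv.1) hN)⟩
      calc _ = g * (y * v) * g⁻¹ := by group
        _ = _ := by rw [tr y hy.1 a ha v hv.1 hy.2 hv.2.symm]; group)
  haveI : Nontrivial (G ⧸ normalizer (V : Set G)) := ⟨(c : G), (1 : G), fun e =>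
    ac (nV c hc (by simpa using QuotientGroup.eq.1 e.symm)).symm⟩
  have DN : D ⊆ normalClosure (V : Set G) := fun x hx => by
    obtain ⟨g, rfl⟩ := isConj_iff.1 (ha.symm.trans hx)
    exact normalClosure_normal.conj_mem _ (subset_normalClosure aV) g
  have DD1 : ∀ x ∈ DD (cosV V (normalizer (V : Set G))), x = 1 ∨ x ∈ D := by
    rintro x ⟨ω, hx⟩
    obtain ⟨g, rfl⟩ := QuotientGroup.mk_surjective ω
    rcases (mem_cosV le_rfl).1 hx with e | e
    · left
      calc x = g * (g⁻¹ * x * g) * g⁻¹ := by group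
        _ = 1 := by rw [e]; group
    · right
      simpa [mul_assoc] using h.conj g _ e.1
  refine pt_count hS (by rw [iSup_cosV le_rfl]; exact top _ (DN ha) (DN hb) (DN hc)) (fun ω => ?_)
    ⟨h.pr, h.five, fun d => hS.DD_sq, fun g d hd => hS.DD_conj hd g, fun d hd e he => ?_⟩
  · rw [hS.card_A_eq ω (1 : G)]
    exact hS.four_of (a := a) (b := b) ((mem_cosV le_rfl).2 (by simpa using aV))
      ((mem_cosV le_rfl).2 (by rw [inv_one, one_mul, mul_one]; exact Or.inr ⟨hb, ab.symm⟩)) (ne1 a ha) (ne1 b hb) n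
  · rcases DD1 d hd with rfl | hd
    · simp
    rcases DD1 e he with rfl | he
    · simp
    exact h.ord d hd e he

theorem pt_main (p : ℕ) (n : ℕ) : ∀ (G : Type u) [Group G] [Finite G], Nat.card G = n → PP G p := by
  induction n using Nat.strong_induction_on with
  | _ n IH =>
  intro G _ _ hn
  by_cases hO : ∀ N : Subgroup G, N.Normal → IsPGroup 2 N → N = ⊥
  · exact pt_core (fun H hH => IH _ (hn ▸ by
      rw [← H.card_mul_index]
      exact lt_mul_of_one_lt_right Nat.card_pos (one_lt_index_of_ne_top hH)) H rfl) hO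
  push Not at hO
  obtain ⟨N, hN, h2, N1⟩ := hO
  intro D h a ha b hb c hc ab ac bc
  have k : ∀ d ∈ D, ∀ e ∈ D, QuotientGroup.mk' N d * QuotientGroup.mk' N e =
      QuotientGroup.mk' N e * QuotientGroup.mk' N d → d * e = e * d := fun d hd e he e1 => by
    have : (d * e) ^ 2 ∈ N := by
      rw [← QuotientGroup.eq_one_iff, ← QuotientGroup.mk'_apply, map_pow, map_mul, sq]
      exact sq_of_comm (by rw [← map_mul, h.sq d hd, map_one]) (by rw [← map_mul, h.sq e he, map_one]) e1
    obtain ⟨j, hj⟩ := h2 ⟨_, this⟩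
    exact h.comm_of hd he (k := j + 1) (by
      rw [pow_succ', pow_mul]; exact congrArg Subtype.val hj)
  have := IH _ (hn ▸ by
      rw [← N.index_mul_card]
      exact lt_mul_of_one_lt_right N.index_ne_zero_of_finite.bot_lt (N.one_lt_card_iff_ne_bot.2 N1))
    (G ⧸ N) rfl _ (h.map _ (QuotientGroup.mk'_surjective N)) _ ⟨a, ha, rfl⟩ _ ⟨b, hb, rfl⟩ _
    ⟨c, hc, rfl⟩ (by rw [← map_mul, ab, map_mul]) (fun e => ac (k a ha c hc e))
    fun e => bc (k b hb c hc e)
  exact k c hc _ (h.conj' (sq_of_comm (h.sq a ha) (h.sq b hb) ab) hc) (by simpa only [map_mul] using this)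

theorem comm_of_pow {r w : G} {p k : ℕ} (hp : r ^ p = 1) (hk : k.Coprime p)
    (h : Commute (r ^ k) w) : Commute r w := by
  obtain ⟨m, hm⟩ := exists_pow_eq_self_of_coprime
    (hk.coprime_dvd_right (orderOf_dvd_of_pow_eq_one hp))
  rw [← hm]; exact h.pow_left m

theorem PT.no_comm {p : ℕ} {D : Set G} (h : PT p D)
    (hO : ∀ N : Subgroup G, N.Normal → IsPGroup 2 N → N = ⊥) (gen : closure D = ⊤)
    (cl : ∀ a ∈ D, ∀ b ∈ D, IsConj a b) {a b : G} (ha : a ∈ D) (hb : b ∈ D) (ab : a * b = b * a) :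
    a = b := by
  have P := pt_main p _ G rfl D h
  have tr : ∀ e ∈ D, ∀ a ∈ D, ∀ b ∈ D, e * a = a * e → a * b = b * a → e * b = b * e := by
    intro e he a ha b hb ea ab
    by_contra eb
    have n : a ≠ b := fun e1 => eb (e1 ▸ ea)
    have a2 := h.sq a ha
    have w2 := sq_of_comm a2 (h.sq b hb) ab
    obtain ⟨c, hc, ac, bc⟩ : ∃ c ∈ D, a * c ≠ c * a ∧ b * c ≠ c * b := by
      by_contra hn
      push Not at hn
      set M := closure (insert a {c | c ∈ D ∧ a * c ≠ c * a})
      have aM : a ∈ M := subset_closure (Or.inl rfl)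
      have hN : closure D ≤ normalizer (M : Set G) := (closure_le _).2 fun g hg => by
        by_cases ag : a * g = g * a
        · refine mem_normalizer_fintype fun x hx => ?_
          refine (closure_le (M.comap (MulAut.conj g).toMonoidHom)).2 ?_ hx
          rintro y (rfl | hy)
          · change g * y * g⁻¹ ∈ M
            rwa [conj_eq_of_comm ag.symm]
          · refine subset_closure (Or.inr ⟨h.conj g y hy.1, fun e1 => hy.2 ?_⟩)
            change a * (g * y * g⁻¹) = g * y * g⁻¹ * a at e1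
            calc _ = g⁻¹ * (g * a) * y := by group
              _ = g⁻¹ * (a * (g * y * g⁻¹)) * g := by rw [← ag]; group
              _ = y * g⁻¹ * (a * g) := by rw [e1]; group
              _ = _ := by rw [ag]; group
        · exact le_normalizer (subset_closure (Or.inr ⟨hg, ag⟩) : g ∈ M)
      obtain ⟨g, rfl⟩ := isConj_iff.1 (cl a ha e he)
      have := (mem_normalizer_iff.1 (hN (gen ▸ mem_top g)) a).1 aM
      refine eb (mem_c1.1 ((closure_le (centralizer {b})).2 ?_ this)).symm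
      rintro y (rfl | hy)
      exacts [mem_c1.2 ab.symm, mem_c1.2 (hn y hy.1 hy.2)]
    have c2 := h.sq c hc
    have rp := (h.ord a ha c hc).resolve_left ac
    have cw : c * (a * b) ≠ a * b * c := fun e1 => ac (h.cw ha hb hc ab n e1).symm
    have P1 := P a ha b hb c hc ab ac bc
    have aw : a * (a * b) = a * b * a := by rw [mul_assoc, ← ab]
    have bw : b = a * (a * b) := (sq_mul_cancel a2 b).symm
    have z2 := sq_of_comm c2 (h.sq _ (h.conj' w2 hc)) P1
    have CW : ∀ d ∈ D, d * (a * b) = a * b * d → d * a = a * d := fun d hd => h.cw ha hb hd ab n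
    generalize a * b = w at w2 cw P1 aw bw z2 CW
    subst bw
    have cz : c * (c * (w * c * w)) = c * (w * c * w) * c := by rw [mul_assoc c _ c, ← P1]
    have wz : w * (c * (w * c * w)) = c * (w * c * w) * w := by
      nth_rewrite 1 [P1]
      simp only [mul_assoc, sq_mul_cancel w2, w2, mul_one]
    have cwc : c * w * c = w * (c * (w * c * w)) := by
      rw [wz]; simp only [mul_assoc, w2, mul_one]
    generalize c * (w * c * w) = z at z2 cz wz cwc
    have czc : c * z * c = z := by rw [cz, mul_sq_cancel c2]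
    have awa : a * w * a = w := by rw [aw, mul_sq_cancel a2]
    have ri : (a * c)⁻¹ = c * a := by
      rw [mul_inv_rev, CfsgBS.inv_eq_of_sq a2, CfsgBS.inv_eq_of_sq c2]
    have act : ∀ x, a * c * x * (a * c)⁻¹ = a * (c * x * c) * a := fun x => by
      rw [ri]; simp only [mul_assoc]
    have am : ∀ x y, a * (x * y) * a = a * x * a * (a * y * a) := fun x y => by
      simp only [mul_assoc, sq_mul_cancel a2]
    have cm : ∀ x y, c * (x * y) * c = c * x * c * (c * y * c) := fun x y => by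
      simp only [mul_assoc, sq_mul_cancel c2]
    have ha' := h.conj' z2 ha
    have n1 : z * a * z ≠ a := fun e1 => by
      have aza : a * z * a = z := by
        nth_rewrite 1 [← e1]
        simp only [mul_assoc, sq_mul_cancel z2, a2, mul_one]
      have r1 : a * c * w * (a * c)⁻¹ = w * z := by rw [act, cwc, am, awa, aza]
      have r2 : a * c * (w * z) * (a * c)⁻¹ = w := by rw [act, cm, cwc, czc, mul_sq_cancel z2, awa]
      have := comm_of_pow (w := w) rp (Nat.coprime_two_left.2 h.odd) (comm_of_conj (by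
        nth_rewrite 2 [← r2]; rw [← r1, pow_two]; group))
      rw [conj_eq_of_comm this, left_eq_mul] at r1
      exact cw (by rw [← mul_sq_cancel c2 (c * w), cwc, r1, mul_one])
    have n2 : z * a * z ≠ a * w := fun e1 => by
      have aza : a * z * a = w * z := by
        rw [← sq_mul_cancel a2 w, ← e1]
        simp only [mul_assoc, z2, mul_one]
      have r1 : a * c * w * (a * c)⁻¹ = z := by rw [act, cwc, am, awa, aza, sq_mul_cancel w2]
      have r2 : a * c * z * (a * c)⁻¹ = w * z := by rw [act, czc, aza]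
      have r3 : a * c * (w * z) * (a * c)⁻¹ = w := by rw [act, cm, cwc, czc, mul_sq_cancel z2, awa]
      have := comm_of_pow (w := w) (k := 3) rp ((Nat.coprime_primes Nat.prime_three h.pr).2
        (by have := h.five; omega)) (comm_of_conj (by
          nth_rewrite 2 [← r3]; rw [← r2, ← r1, pow_three]; group))
      rw [conj_eq_of_comm this] at r1
      exact cw (by rw [r1, cz])
    have zw : z * a * z * w = w * (z * a * z) := by
      rw [mul_assoc, ← wz, ← mul_assoc, mul_assoc z, aw, ← mul_assoc, ← wz]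
      simp only [mul_assoc]
    have za := CW _ ha' zw
    have hb' : a * w * (a * (z * a * z)) ∈ D := by
      have := h.conj' z2 hb
      rw [← mul_assoc z, mul_assoc _ w, wz, ← mul_assoc, zw] at this
      rwa [← mul_assoc, awa]
    generalize z * a * z = a' at ha' n1 n2 zw za hb'
    have ba' : a * w * a' = a' * (a * w) := by rw [mul_assoc, ← zw, ← mul_assoc, ← za, mul_assoc]
    have ea' : a' * e ≠ e * a' := fun e1 => n1 (by
      have := h.cen hb he (Ne.symm eb) (sq_of_comm a2 (h.sq _ ha') za.symm)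
        (Commute.mul_left ab ba'.symm) (Commute.mul_left ea.symm e1) hb'
      rw [← sq_mul_cancel a2 a', this, mul_one])
    have P2 := P _ hb a' ha' e he ba' (Ne.symm eb) ea'
    have e1 : a * w * a' = a * w * (a * a') * a := by
      rw [mul_assoc _ _ a, mul_assoc a a', za, sq_mul_cancel a2]
    have e2 : a * w * (a * a') * a = a * (a * w * (a * a')) := by
      rw [← e1, ← mul_assoc (a * w), ← ab, ← mul_assoc, sq_mul_cancel a2]
    have e3 : a * w * a' * e * (a * w * a') = a * w * (a * a') * e * (a * w * (a * a')) := by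
      rw [e1]
      nth_rewrite 2 [e2]
      rw [mul_assoc _ a e, ← ea]
      simp only [mul_assoc, sq_mul_cancel a2]
    rw [e3] at P2
    exact eb (h.cw hb ha' he ba' n2.symm (by
      rw [e1]; exact Commute.mul_right (h.comm_of' he hb' P2) ea))
  refine h.fixall hO tr ha hb ab fun x hx => ?_
  by_cases ax : a * x = x * a
  · have : Commute (a * b) x := Commute.mul_left ax (tr b hb a ha x hx ab.symm ax)
    rw [this.eq, mul_sq_cancel (sq_of_comm (h.sq a ha) (h.sq b hb) ab)]
  · exact P a ha b hb x hx ab ax fun e => ax (tr a ha b hb x hx ab e)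

/-- a class of involutions in which all non-commuting pairs have products of the same order -/
theorem three_of_const (hsol : ∀ N : Subgroup G, N.Normal → Group.IsSolvable N → N = ⊥) {D : Set G}
    (hinv : ∀ d ∈ D, orderOf d = 2) (cj : ∀ g, ∀ d ∈ D, g * d * g⁻¹ ∈ D)
    (cl : ∀ a ∈ D, ∀ b ∈ D, IsConj a b) (gen : closure D = ⊤) {a b : G} (ha : a ∈ D) (hb : b ∈ D)
    (ab : a * b = b * a) (n : a ≠ b) {m : ℕ}
    (hm : ∀ d ∈ D, ∀ e ∈ D, d * e ≠ e * d → orderOf (d * e) = m) :
    ∀ d ∈ D, ∀ e ∈ D, (d * e) ^ 2 = 1 ∨ (d * e) ^ 3 = 1 := by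
  haveI : Fact (Nat.Prime 2) := ⟨Nat.prime_two⟩
  have sq : ∀ d ∈ D, d * d = 1 := fun d hd => mul_self_of_orderOf (hinv d hd)
  have hO : ∀ N : Subgroup G, N.Normal → IsPGroup 2 N → N = ⊥ := fun N hN h2 =>
    hsol N hN (by haveI := h2.isNilpotent; infer_instance)
  intro d hd e he
  by_cases de : d * e = e * d
  · exact Or.inl (by rw [pow_two, sq_of_comm (sq d hd) (sq e he) de])
  right
  have o := hm d hd e he de
  have pw : ∀ x ∈ D, ∀ y ∈ D, ∀ k : ℕ, (x * y) ^ (2 * k) * x ∈ D := fun x hx y hy k => by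
    have := cj ((x * y) ^ (k : ℤ)) x hx
    rw [dih_conj_left (sq x hx) (sq y hy)] at this
    exact_mod_cast this
  have pw' : ∀ x ∈ D, ∀ y ∈ D, ∀ k : ℕ, ((x * y) ^ (2 * k)) ^ 2 = 1 ∨
      orderOf ((x * y) ^ (2 * k)) = m := fun x hx y hy k => by
    rw [← mul_sq_cancel (sq x hx) ((x * y) ^ (2 * k))]
    exact (em _).imp (fun e => by rw [pow_two, sq_of_comm (sq _ (pw x hx y hy k)) (sq x hx) e])
      (hm _ (pw x hx y hy k) x hx)
  have m0 : 0 < m := o ▸ orderOf_pos _
  rcases Nat.even_or_odd m with ⟨j, hj⟩ | om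
  · exfalso
    have := hO _ inferInstance (baer_suzuki_elt (p := 2) a fun g =>
      dih_isPGroup (sq a ha) (sq _ (cj g a ha)) (k := 2) (by
        have hy := cj g a ha
        generalize g * a * g⁻¹ = y at hy
        by_cases ay : a * y = y * a
        · rw [show 2 ^ 2 = 2 * 2 from rfl, pow_mul, pow_two (a * y), sq_of_comm (sq a ha) (sq y hy) ay,
            one_pow]
        rcases pw' a ha y hy 1 with e1 | e1
        · rwa [← pow_mul] at e1
        · have : orderOf ((a * y) ^ (2 * 1)) ∣ j := orderOf_dvd_of_pow_eq_one (by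
            rw [← pow_mul, mul_one, two_mul, ← hj, ← hm a ha y hy ay, pow_orderOf_eq_one])
          have := Nat.le_of_dvd (by omega) this
          omega))
    have a1 : a = 1 := mem_bot.1 (this ▸ subset_normalClosure (Set.mem_singleton _))
    have := hinv a ha
    rw [a1, orderOf_one] at this
    omega
  have de1 : d * e ≠ 1 := fun e1 => de (comm_of_sq (sq d hd) (sq e he) (by rw [e1, one_mul]))
  obtain ⟨p, j, hp, hpd, ho⟩ := exists_prime_pow de1
  have p2 : p ≠ 2 := fun e => om.not_two_dvd_nat (by rw [← o, ← e]; exact hpd)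
  obtain rfl : p = m := by
    have e1 : orderOf ((d * e) ^ (2 * j)) = p := by
      rw [mul_comm 2, pow_mul, Nat.Coprime.orderOf_pow, ho]
      rw [ho]; exact (Nat.coprime_primes hp Nat.prime_two).2 p2
    refine e1.symm.trans ((pw' d hd e he j).resolve_left fun e2 => p2 ?_)
    exact (Nat.prime_dvd_prime_iff_eq hp Nat.prime_two).1 (e1 ▸ orderOf_dvd_of_pow_eq_one e2)
  by_cases p3 : p = 3
  · rw [← p3, ← o, pow_orderOf_eq_one]
  refine absurd (PT.no_comm (p := p) ⟨hp, hp.five_le_of_ne_two_of_ne_three p2 p3, sq, cj,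
    fun x hx y hy => (em _).imp_right fun e => ?_⟩ hO gen cl ha hb ab) n
  rw [← hm x hx y hy e, pow_orderOf_eq_one]

theorem exists_comm_conj (hsol : ∀ N : Subgroup G, N.Normal → Group.IsSolvable N → N = ⊥) {t : G}
    (ht : orderOf t = 2) : ∃ w, IsConj t w ∧ Commute t w ∧ w ≠ t := by
  by_contra hn
  push Not at hn
  have h1 := hsol _ inferInstance (CfsgL0.odd_solvable (odd_card_pPrimeCore (G := G)))
  have h2 := hsol (zpowers t) ⟨fun x hx g => by
    obtain ⟨n, rfl⟩ := mem_zpowers_iff.1 hx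
    have := zstar (mul_self_of_orderOf ht) (isol_of_commute ht hn) g
    rw [h1, mem_bot, mul_inv_eq_one, mul_inv_eq_iff_eq_mul] at this
    rw [← conj_zpow, conj_eq_of_comm this.symm]
    exact hx⟩ inferInstance
  have t1 : t = 1 := mem_bot.1 (h2 ▸ mem_zpowers t)
  rw [t1, orderOf_one] at ht
  omega

end CfsgH4
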