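import Cfsg.Agent.H4.Count

/-! Parity of finite sets with an involution. -/

set_option autoImplicit false

namespace CfsgH4

open Subgroup

theorem card_filter_fixed_mod_two {α : Type*} [DecidableEq α] (s : Finset α) (f : α → α)
    (hs : ∀ a ∈ s, f a ∈ s) (hf : ∀ a ∈ s, f (f a) = a) :
    s.card % 2 = (s.filter (fun a => f a = a)).card % 2 := by
  rw [← Finset.card_filter_add_card_filter_not (s := s) (fun a => f a = a)]
  have : Even (s.filter (fun a => ¬ f a = a)).card := by
    rw [← ZMod.natCast_eq_zero_iff_even, Finset.cast_card]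
    refine Finset.sum_involution (fun a _ => f a) (fun _ _ => by decide) ?_ ?_ ?_
    · intro a ha _; exact (Finset.mem_filter.1 ha).2
    · intro a ha
      rw [Finset.mem_filter] at ha ⊢
      exact ⟨hs a ha.1, by rw [hf a ha.1]; exact fun h => ha.2 h.symm⟩
    · intro a ha; exact hf a (Finset.mem_filter.1 ha).1
  obtain ⟨k, hk⟩ := this
  omega

theorem exists_sylow_le_of_not_dvd_index {G : Type*} [Group G] [Finite G] {p : ℕ} [Fact p.Prime]
    {H : Subgroup G} (h : ¬ p ∣ H.index) : ∃ P : Sylow p G, (P : Subgroup G) ≤ H := by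
  obtain ⟨Q⟩ : Nonempty (Sylow p H) := inferInstance
  refine ⟨(Q.isPGroup'.map H.subtype).toSylow ?_, map_subtype_le _⟩
  rw [← relIndex_mul_index (map_subtype_le (Q : Subgroup H)), Nat.Prime.dvd_mul Fact.out, not_or]
  refine ⟨?_, h⟩
  rw [relIndex, subgroupOf, comap_map_eq_self_of_injective (subtype_injective _)]
  exact Q.not_dvd_index

end CfsgH4
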